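import Cfsg.Agent.Lib.TwistedE6Fischer.Data
import Mathlib.Tactic.IntervalCases

/-! The checks of the base elements and of the nine generators over the field with two elements. -/

set_option autoImplicit false
set_option maxRecDepth 100000

namespace CfsgLib.TwistedE6Fischer

/-- The product of the planes of a word of entries. -/
def prodP : List ℕ → List ℕ × List ℕ
  | [] => (oneB, List.replicate 78 0)
  | i :: l => mulP (Data.planes.getD i ([], [])) (prodP l)

/-- The same, evaluated in steps. -/
noncomputable def prodPK {β : Type} (l : List ℕ) : (List ℕ × List ℕ → β) → β :=
  List.rec (motive := fun _ => (List ℕ × List ℕ → β) → β) (fun k => k (oneB, List.replicate 78 0))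
    (fun i _ ih k => ih fun T => mulPK (Data.planes.getD i ([], [])) T k) l

theorem prodPK_eq {β : Type} : ∀ (l : List ℕ) (k : List ℕ × List ℕ → β), prodPK l k = k (prodP l)
  | [], k => rfl
  | i :: l, k => by
    show prodPK l (fun T => mulPK (Data.planes.getD i ([], [])) T k) = _
    rw [prodPK_eq l, mulPK_eq]
    rfl

/-- The check of one base element. -/
noncomputable def baseOK (j : ℕ) : Bool :=
  prodPK (Data.baseWords.getD j []) fun X => mulPK X Data.change fun Y =>
    mulPK Data.change Y fun Z =>
      mulK (Data.baseMat.getD j []) (Data.baseMat.getD j []) fun S =>
        Z == (Data.baseMat.getD j [], List.replicate 78 0) && S == oneB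

/-- The check of one generator. -/
noncomputable def genOK (x : ℕ) : Bool :=
  prodK ((Data.genWords.getD x []).map fun j => Data.baseMat.getD j []) fun T =>
    mulK (Data.genMat.getD x []) (Data.genMat.getD x []) fun S =>
      T == Data.genMat.getD x [] && S == oneB && !(Data.genMat.getD x [] == oneB)

theorem size_check :
    (Data.planes.all fun A => Nat.beq A.1.length 78 && Nat.beq A.2.length 78) = true ∧
    (Data.baseMat.all fun A => Nat.beq A.length 78) = true ∧
    (Data.genMat.all fun A => Nat.beq A.length 78) = true ∧
    (Data.leftMat.all fun A => Nat.beq A.2.length 78) = true ∧
    Data.change.1.length = 78 ∧ Data.change.2.length = 78 ∧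
    Data.spanMat.length = 78 ∧ Data.spanInv.length = 78 := by
  decide +kernel

theorem change_check :
    (mulPK Data.change Data.change fun Z => Z == (oneB, List.replicate 78 0)) = true := by
  decide +kernel

theorem base_check0 : baseOK 0 = true := by decide +kernel

theorem base_check1 : baseOK 1 = true := by decide +kernel

theorem base_check2 : baseOK 2 = true := by decide +kernel

theorem base_check3 : baseOK 3 = true := by decide +kernel

theorem base_check4 : baseOK 4 = true := by decide +kernel

theorem base_check5 : baseOK 5 = true := by decide +kernel

theorem base_check6 : baseOK 6 = true := by decide +kernel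

theorem base_check7 : baseOK 7 = true := by decide +kernel

theorem base_check8 : baseOK 8 = true := by decide +kernel

theorem base_check9 : baseOK 9 = true := by decide +kernel

theorem base_check10 : baseOK 10 = true := by decide +kernel

theorem base_check11 : baseOK 11 = true := by decide +kernel

theorem base_check12 : baseOK 12 = true := by decide +kernel

theorem gen_check0 : genOK 0 = true := by decide +kernel

theorem gen_check1 : genOK 1 = true := by decide +kernel

theorem gen_check2 : genOK 2 = true := by decide +kernel

theorem gen_check3 : genOK 3 = true := by decide +kernel

theorem gen_check4 : genOK 4 = true := by decide +kernel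

theorem gen_check5 : genOK 5 = true := by decide +kernel

theorem gen_check6 : genOK 6 = true := by decide +kernel

theorem gen_check7 : genOK 7 = true := by decide +kernel

theorem gen_check8 : genOK 8 = true := by decide +kernel

theorem base_check : ∀ j < 13, baseOK j = true := by
  intro j hj
  interval_cases j
  · exact base_check0
  · exact base_check1
  · exact base_check2
  · exact base_check3
  · exact base_check4
  · exact base_check5
  · exact base_check6
  · exact base_check7
  · exact base_check8
  · exact base_check9
  · exact base_check10
  · exact base_check11
  · exact base_check12

theorem gen_check : ∀ x < 9, genOK x = true := by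
  intro x hx
  interval_cases x
  · exact gen_check0
  · exact gen_check1
  · exact gen_check2
  · exact gen_check3
  · exact gen_check4
  · exact gen_check5
  · exact gen_check6
  · exact gen_check7
  · exact gen_check8

theorem word_check : Data.entries.all (fun e => Nat.blt e.1 72 && Nat.blt e.2 4) = true ∧
    Data.baseWords.all (fun l => l.all fun i => Nat.blt i 21) = true ∧
    Data.genWords.all (fun l => l.all fun i => Nat.blt i 13) = true ∧
    Data.genWords.length = 9 := by
  decide +kernel

end CfsgLib.TwistedE6Fischer
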