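import Cfsg.Agent.Lib.TwistedE6Fischer.Data
import Mathlib.Tactic.IntervalCases
import Cfsg.Agent.Lib.Presented.Cert.Fi22UCert

/-! The generators satisfy the relations of Fi₂₂. -/

set_option autoImplicit false
set_option maxRecDepth 100000

namespace CfsgLib.TwistedE6Fischer

/-- One relation holds. -/
noncomputable def relOK (i : ℕ) : Bool :=
  let w := CfsgLib.Presented.Fi22UCert.relWords.getD i []
  w.all (fun x => Nat.blt x 9) && prodK (w.map fun x => Data.genMat.getD x []) fun T => T == oneB

theorem rel_check0 : relOK 0 = true := by decide +kernel

theorem rel_check1 : relOK 1 = true := by decide +kernel

theorem rel_check2 : relOK 2 = true := by decide +kernel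

theorem rel_check3 : relOK 3 = true := by decide +kernel

theorem rel_check4 : relOK 4 = true := by decide +kernel

theorem rel_check5 : relOK 5 = true := by decide +kernel

theorem rel_check6 : relOK 6 = true := by decide +kernel

theorem rel_check7 : relOK 7 = true := by decide +kernel

theorem rel_check8 : relOK 8 = true := by decide +kernel

theorem rel_check9 : relOK 9 = true := by decide +kernel

theorem rel_check10 : relOK 10 = true := by decide +kernel

theorem rel_check11 : relOK 11 = true := by decide +kernel

theorem rel_check12 : relOK 12 = true := by decide +kernel

theorem rel_check13 : relOK 13 = true := by decide +kernel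

theorem rel_check14 : relOK 14 = true := by decide +kernel

theorem rel_check15 : relOK 15 = true := by decide +kernel

theorem rel_check16 : relOK 16 = true := by decide +kernel

theorem rel_check17 : relOK 17 = true := by decide +kernel

theorem rel_check18 : relOK 18 = true := by decide +kernel

theorem rel_check19 : relOK 19 = true := by decide +kernel

theorem rel_check20 : relOK 20 = true := by decide +kernel

theorem rel_check21 : relOK 21 = true := by decide +kernel

theorem rel_check22 : relOK 22 = true := by decide +kernel

theorem rel_check23 : relOK 23 = true := by decide +kernel

theorem rel_check24 : relOK 24 = true := by decide +kernel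

theorem rel_check25 : relOK 25 = true := by decide +kernel

theorem rel_check26 : relOK 26 = true := by decide +kernel

theorem rel_check27 : relOK 27 = true := by decide +kernel

theorem rel_check28 : relOK 28 = true := by decide +kernel

theorem rel_check29 : relOK 29 = true := by decide +kernel

theorem rel_check30 : relOK 30 = true := by decide +kernel

theorem rel_check31 : relOK 31 = true := by decide +kernel

theorem rel_check32 : relOK 32 = true := by decide +kernel

theorem rel_check33 : relOK 33 = true := by decide +kernel

theorem rel_check34 : relOK 34 = true := by decide +kernel

theorem rel_check35 : relOK 35 = true := by decide +kernel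

theorem rel_check36 : relOK 36 = true := by decide +kernel

theorem rel_check37 : relOK 37 = true := by decide +kernel

theorem rel_check38 : relOK 38 = true := by decide +kernel

theorem rels_length : CfsgLib.Presented.Fi22UCert.relWords.length = 39 := by decide +kernel

theorem rels_check : ∀ i < 39, relOK i = true := by
  intro i hi
  interval_cases i
  · exact rel_check0
  · exact rel_check1
  · exact rel_check2
  · exact rel_check3
  · exact rel_check4
  · exact rel_check5
  · exact rel_check6
  · exact rel_check7
  · exact rel_check8
  · exact rel_check9
  · exact rel_check10
  · exact rel_check11
  · exact rel_check12
  · exact rel_check13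
  · exact rel_check14
  · exact rel_check15
  · exact rel_check16
  · exact rel_check17
  · exact rel_check18
  · exact rel_check19
  · exact rel_check20
  · exact rel_check21
  · exact rel_check22
  · exact rel_check23
  · exact rel_check24
  · exact rel_check25
  · exact rel_check26
  · exact rel_check27
  · exact rel_check28
  · exact rel_check29
  · exact rel_check30
  · exact rel_check31
  · exact rel_check32
  · exact rel_check33
  · exact rel_check34
  · exact rel_check35
  · exact rel_check36
  · exact rel_check37
  · exact rel_check38

end CfsgLib.TwistedE6Fischer
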