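import Cfsg.Agent.Lib.TwistedE6Fischer.Data

/-! The certificate for the fixed line and the basis spanned from it. -/

set_option autoImplicit false
set_option maxRecDepth 100000

namespace CfsgLib.TwistedE6Fischer

/-- The sum of the left factors applied to the generators minus one. -/
def lineSum : List (ℕ × List ℕ) → List ℕ
  | [] => List.replicate 78 0
  | cL :: l => addB (mulB cL.2 (addB (Data.genMat.getD cL.1 []) oneB)) (lineSum l)

/-- One plus the rank-one matrix of the fixed line. -/
def lineTarget : List ℕ :=
  (List.range 78).map fun i =>
    (1 <<< i) ^^^ (if Nat.testBit (Data.spanMat.getD i 0) 0 then 1 <<< Data.pivot else 0)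

theorem line_check : lineSum Data.leftMat = lineTarget ∧
    (Data.leftMat.all fun cL => Nat.blt 0 cL.1 && Nat.blt cL.1 9 &&
      (List.range 78).all fun i =>
        Nat.testBit ((mulB (Data.genMat.getD cL.1 []) Data.spanMat).getD i 0) 0 ==
          Nat.testBit (Data.spanMat.getD i 0) 0) = true := by
  decide +kernel

theorem span_check : mulB Data.spanMat Data.spanInv = oneB ∧
    ((List.range 9).all fun x =>
      let A := mulB (Data.genMat.getD x []) Data.spanMat
      (List.range 78).all fun k =>
        !(Nat.beq (Data.spanSteps.getD k (0, 0)).2 x) || Nat.beq k 0 ||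
          (Nat.blt (Data.spanSteps.getD k (0, 0)).1 k && (List.range 78).all fun i =>
            Nat.testBit (Data.spanMat.getD i 0) k ==
              Nat.testBit (A.getD i 0) (Data.spanSteps.getD k (0, 0)).1)) = true ∧
    ((List.range 78).all fun k => Nat.beq k 0 ||
      (Nat.blt 0 (Data.spanSteps.getD k (0, 0)).2 && Nat.blt (Data.spanSteps.getD k (0, 0)).2 9)) = true ∧
    Data.pivot < 78 := by
  decide +kernel

end CfsgLib.TwistedE6Fischer
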