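import Cfsg.Agent.Lib.TwistedE6Fischer.Data

/-! The bit planes are those of root elements (one block). -/

set_option autoImplicit false
set_option maxRecDepth 100000

namespace CfsgLib.TwistedE6Fischer

theorem planes_check11 : xOK (Data.entries.getD 11 (0, 0)).1 (Data.entries.getD 11 (0, 0)).2
    (Data.planes.getD 11 ([], [])) = true := by
  decide +kernel

theorem planes_check12 : xOK (Data.entries.getD 12 (0, 0)).1 (Data.entries.getD 12 (0, 0)).2
    (Data.planes.getD 12 ([], [])) = true := by
  decide +kernel

theorem planes_check13 : xOK (Data.entries.getD 13 (0, 0)).1 (Data.entries.getD 13 (0, 0)).2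
    (Data.planes.getD 13 ([], [])) = true := by
  decide +kernel

theorem planes_check14 : xOK (Data.entries.getD 14 (0, 0)).1 (Data.entries.getD 14 (0, 0)).2
    (Data.planes.getD 14 ([], [])) = true := by
  decide +kernel

theorem planes_check15 : xOK (Data.entries.getD 15 (0, 0)).1 (Data.entries.getD 15 (0, 0)).2
    (Data.planes.getD 15 ([], [])) = true := by
  decide +kernel

theorem planes_check16 : xOK (Data.entries.getD 16 (0, 0)).1 (Data.entries.getD 16 (0, 0)).2
    (Data.planes.getD 16 ([], [])) = true := by
  decide +kernel

theorem planes_check17 : xOK (Data.entries.getD 17 (0, 0)).1 (Data.entries.getD 17 (0, 0)).2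
    (Data.planes.getD 17 ([], [])) = true := by
  decide +kernel

theorem planes_check18 : xOK (Data.entries.getD 18 (0, 0)).1 (Data.entries.getD 18 (0, 0)).2
    (Data.planes.getD 18 ([], [])) = true := by
  decide +kernel

theorem planes_check19 : xOK (Data.entries.getD 19 (0, 0)).1 (Data.entries.getD 19 (0, 0)).2
    (Data.planes.getD 19 ([], [])) = true := by
  decide +kernel

theorem planes_check20 : xOK (Data.entries.getD 20 (0, 0)).1 (Data.entries.getD 20 (0, 0)).2
    (Data.planes.getD 20 ([], [])) = true := by
  decide +kernel

end CfsgLib.TwistedE6Fischer
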