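import Cfsg.Agent.Lib.TwistedE6Fischer.CheckX0
import Cfsg.Agent.Lib.TwistedE6Fischer.CheckX1

/-! All bit planes are those of root elements. -/

set_option autoImplicit false
set_option maxRecDepth 100000

namespace CfsgLib.TwistedE6Fischer

theorem planes_check : ∀ i < 21, xOK (Data.entries.getD i (0, 0)).1 (Data.entries.getD i (0, 0)).2
    (Data.planes.getD i ([], [])) = true := by
  intro i hi
  interval_cases i
  · exact planes_check0
  · exact planes_check1
  · exact planes_check2
  · exact planes_check3
  · exact planes_check4
  · exact planes_check5
  · exact planes_check6
  · exact planes_check7
  · exact planes_check8
  · exact planes_check9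
  · exact planes_check10
  · exact planes_check11
  · exact planes_check12
  · exact planes_check13
  · exact planes_check14
  · exact planes_check15
  · exact planes_check16
  · exact planes_check17
  · exact planes_check18
  · exact planes_check19
  · exact planes_check20

end CfsgLib.TwistedE6Fischer
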