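import Cfsg.Agent.Lib.TwistedE6Fischer.Data

/-! The bit planes are those of root elements (one block). -/

set_option autoImplicit false
set_option maxRecDepth 100000

namespace CfsgLib.TwistedE6Fischer

theorem planes_check0 : xOK (Data.entries.getD 0 (0, 0)).1 (Data.entries.getD 0 (0, 0)).2
    (Data.planes.getD 0 ([], [])) = true := by
  decide +kernel

theorem planes_check1 : xOK (Data.entries.getD 1 (0, 0)).1 (Data.entries.getD 1 (0, 0)).2
    (Data.planes.getD 1 ([], [])) = true := by
  decide +kernel

theorem planes_check2 : xOK (Data.entries.getD 2 (0, 0)).1 (Data.entries.getD 2 (0, 0)).2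
    (Data.planes.getD 2 ([], [])) = true := by
  decide +kernel

theorem planes_check3 : xOK (Data.entries.getD 3 (0, 0)).1 (Data.entries.getD 3 (0, 0)).2
    (Data.planes.getD 3 ([], [])) = true := by
  decide +kernel

theorem planes_check4 : xOK (Data.entries.getD 4 (0, 0)).1 (Data.entries.getD 4 (0, 0)).2
    (Data.planes.getD 4 ([], [])) = true := by
  decide +kernel

theorem planes_check5 : xOK (Data.entries.getD 5 (0, 0)).1 (Data.entries.getD 5 (0, 0)).2
    (Data.planes.getD 5 ([], [])) = true := by
  decide +kernel

theorem planes_check6 : xOK (Data.entries.getD 6 (0, 0)).1 (Data.entries.getD 6 (0, 0)).2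
    (Data.planes.getD 6 ([], [])) = true := by
  decide +kernel

theorem planes_check7 : xOK (Data.entries.getD 7 (0, 0)).1 (Data.entries.getD 7 (0, 0)).2
    (Data.planes.getD 7 ([], [])) = true := by
  decide +kernel

theorem planes_check8 : xOK (Data.entries.getD 8 (0, 0)).1 (Data.entries.getD 8 (0, 0)).2
    (Data.planes.getD 8 ([], [])) = true := by
  decide +kernel

theorem planes_check9 : xOK (Data.entries.getD 9 (0, 0)).1 (Data.entries.getD 9 (0, 0)).2
    (Data.planes.getD 9 ([], [])) = true := by
  decide +kernel

theorem planes_check10 : xOK (Data.entries.getD 10 (0, 0)).1 (Data.entries.getD 10 (0, 0)).2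
    (Data.planes.getD 10 ([], [])) = true := by
  decide +kernel

end CfsgLib.TwistedE6Fischer
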