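import Cfsg.Agent.Lib.TwistedE6Fischer.NonConj
import Cfsg.Agent.Lib.Presented.Fi22O7.Iso
import Cfsg.Agent.S2079
import Cfsg.Agent.S2604

/-!
Three classes of subgroups Fi₂₂, and of subgroups Ω₇(3), in ²E₆(2).
-/

set_option autoImplicit false

namespace CfsgLib.TwistedE6Fischer

open Cfsg.Lie CfsgLib.Twisted CfsgLib.Presented
open scoped MatrixGroups

variable {K : Type*} [Field K] [Fintype K] [CharP K 2] {w : K} (hw : w * w = w + 1)
  (hn : Fintype.card K = (2 ^ 1) * (2 ^ 1))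

include hw hn

theorem fi22_classes : ∃ H : Fin 3 → Subgroup ↥(twistedE6 K (2 ^ 1)),
    (∀ i, Nonempty (H i ≃* Cfsg.Spor.Fi22)) ∧
      ∀ i j, i ≠ j → ∀ g : ↥(twistedE6 K (2 ^ 1)),
        (H i).map (MulAut.conj g).toMonoidHom ≠ H j := by
  obtain ⟨ψ, hψ, hv⟩ := exists_embedding hw hn
  refine three_classes hw hn (sq_inner_of_card_out Cfsg.Agent.S2079.result) ψ hψ fun x h1 h9 =>
    ⟨PresentedGroup.of (Fi22UCosets.genOf x).1, ?_⟩
  rw [hv]
  congr 1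
  interval_cases x <;> rfl

theorem omega_classes : ∃ H : Fin 3 → Subgroup ↥(twistedE6 K (2 ^ 1)),
    (∀ i, Nonempty (H i ≃* Cfsg.Omega (ZMod 3) (Cfsg.quadFormOdd 3 (ZMod 3)))) ∧
      ∀ i j, i ≠ j → ∀ g : ↥(twistedE6 K (2 ^ 1)),
        (H i).map (MulAut.conj g).toMonoidHom ≠ H j := by
  obtain ⟨ψ, hψ, hv⟩ := exists_embedding hw hn
  obtain ⟨e⟩ := Fi22O7.nonempty_equiv
  haveI : Fact (Nat.Prime 3) := ⟨Nat.prime_three⟩
  obtain ⟨o⟩ := Cfsg.Agent.S2604.result (F := ZMod 3) (p := 3) (f := 1) (m := 3) le_rfl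
    (by simp [ZMod.card]) (by norm_num) le_rfl
  have hout : Nat.card (Cfsg.Out (Cfsg.POmega (ZMod 3) (Cfsg.quadFormOdd 3 (ZMod 3)))) = 2 := by
    rw [Nat.card_congr o.toEquiv, Nat.card_congr Multiplicative.toAdd, Nat.card_prod, Nat.card_zmod,
      Nat.card_zmod]
  obtain ⟨H, h1, h2⟩ := three_classes hw hn (sq_inner_congr e (sq_inner_of_card_out hout))
    (ψ.comp Fi22OCosets.H.subtype) (hψ.comp Subtype.val_injective) fun x hx1 hx9 => by
      refine ⟨⟨PresentedGroup.of (Fi22UCosets.genOf x).1,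
        FreeGroup.of (Fi22UCosets.genOf x).1, Subgroup.subset_closure ?_, rfl⟩, ?_⟩
      · interval_cases x <;> simp [Fi22UCosets.genOf, Cfsg.Spor.Fi22.b, Cfsg.Spor.Fi22.c,
          Cfsg.Spor.Fi22.d, Cfsg.Spor.Fi22.e, Cfsg.Spor.Fi22.f, Cfsg.Spor.Fi22.g,
          Cfsg.Spor.Fi22.h, Cfsg.Spor.Fi22.i]
      · show (ψ (PresentedGroup.of _) : GL chevE6.Idx K) = _
        rw [hv]
        congr 1
        interval_cases x <;> rfl
  have hq : ∀ G : Cfsg.Omega (ZMod 3) (Cfsg.quadFormOdd 3 (ZMod 3)),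
      G ∈ Subgroup.center _ → G = 1 := by
    have hb : Nat.card (Subgroup.center (Cfsg.Omega (ZMod 3) (Cfsg.quadFormOdd 3 (ZMod 3)))) = 1 := by
      rw [← CfsgLib.POmega.oddQ_coe]
      exact Fi22O7.center_trivial
    intro G hG
    rw [Subgroup.card_eq_one.1 hb, Subgroup.mem_bot] at hG
    exact hG
  refine ⟨H, fun i => ?_, h2⟩
  obtain ⟨a⟩ := h1 i
  exact ⟨(a.trans e).trans ((QuotientGroup.quotientMulEquivOfEq
    ((Subgroup.eq_bot_iff_forall _).2 hq)).trans QuotientGroup.quotientBot)⟩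

end CfsgLib.TwistedE6Fischer
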