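import Cfsg.Agent.Lib.Schur.E6Two.Collect

/-!
Matrices on the coordinates of E₆ over the field with two elements, packed by rows, their images over
a field of characteristic two, and the codes of root elements over the field with four elements.
-/

set_option autoImplicit false
set_option maxRecDepth 100000

namespace CfsgLib.TwistedE6Fischer

open Cfsg.Lie CfsgLib.Schur.E6Two

/-- The number of a coordinate. -/
def num : chevE6.Idx → ℕ
  | .inl i => i.val
  | .inr s => 6 + s.val

theorem num_lt : ∀ a : chevE6.Idx, num a < 78 := by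
  rintro (i | s)
  · have : i.val < 6 := i.isLt
    show i.val < 78; omega
  · have : s.val < 72 := s.isLt
    show 6 + s.val < 78; omega

theorem num_bijective : Function.Bijective fun a : chevE6.Idx => (⟨num a, num_lt a⟩ : Fin 78) := by
  refine (Fintype.bijective_iff_injective_and_card _).2 ⟨?_, rfl⟩
  intro a b h
  have h' : num a = num b := congrArg Fin.val h
  rcases a with i | s <;> rcases b with j | u <;> simp only [num] at h'
  · exact congrArg Sum.inl (Fin.ext h')
  · have : i.val < 6 := i.isLt; omega
  · have : j.val < 6 := j.isLt; omega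
  · exact congrArg Sum.inr (Fin.ext (by omega))

/-- One row times a packed matrix. -/
def rowMul : ℕ → List ℕ → ℕ
  | _, [] => 0
  | a, b :: B => if Nat.beq a 0 then 0 else (if Nat.testBit a 0 then b else 0) ^^^ rowMul (a / 2) B

/-- A product of packed matrices. -/
def mulB (A B : List ℕ) : List ℕ := A.map fun a => rowMul a B

/-- The packed identity. -/
def oneB : List ℕ := (List.range 78).map fun i => 1 <<< i

/-- The product of a list of packed matrices. -/
def prodB : List (List ℕ) → List ℕ
  | [] => oneB
  | A :: l => mulB A (prodB l)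

/-- A packed matrix plus another. -/
def addB (A B : List ℕ) : List ℕ := List.zipWith (· ^^^ ·) A B

section field

variable {K : Type*} [Field K]

/-- The value of a bit. -/
def bitv (b : Bool) : K := if b then 1 else 0

variable (K) in
/-- The matrix of a packed matrix. -/
def f2 (A : List ℕ) : Matrix chevE6.Idx chevE6.Idx K :=
  Matrix.of fun a b => bitv (Nat.testBit (A.getD (num a) 0) (num b))

theorem sum_num (g : ℕ → K) : ∑ c : chevE6.Idx, g (num c) = ∑ k ∈ Finset.range 78, g k := by
  rw [← Fin.sum_univ_eq_sum_range]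
  exact num_bijective.sum_comp fun k : Fin 78 => g k

theorem f2_oneB : f2 K oneB = 1 := by
  ext a b
  simp only [f2, Matrix.of_apply, oneB, List.getD_eq_getElem?_getD, List.getElem?_map,
    List.getElem?_range (num_lt a), Option.map_some, Option.getD_some, Nat.one_shiftLeft,
    Nat.testBit_two_pow]
  by_cases h : a = b
  · simp [h, bitv, Matrix.one_apply]
  · have : num a ≠ num b := fun e => h (num_bijective.1 (Fin.ext e))
    simp [this, h, bitv, Matrix.one_apply]

variable [CharP K 2]

theorem bitv_xor (x y : Bool) : (bitv (x ^^ y) : K) = bitv x + bitv y := by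
  cases x <;> cases y <;> simp [bitv, CharTwo.add_self_eq_zero]

theorem rowMul_bit : ∀ (B : List ℕ) (a j : ℕ),
    (bitv (Nat.testBit (rowMul a B) j) : K) =
      ∑ k ∈ Finset.range B.length, bitv (Nat.testBit a k) * bitv (Nat.testBit (B.getD k 0) j) := by
  intro B
  induction B with
  | nil => intro a j; simp [rowMul, bitv]
  | cons b B ih =>
    intro a j
    rw [List.length_cons, Finset.sum_range_succ']
    simp only [List.getD_cons_succ, List.getD_cons_zero, Nat.testBit_succ]
    rw [rowMul]
    by_cases ha : a = 0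
    · subst ha
      simp [bitv]
    rw [if_neg (by simpa [Nat.beq_eq] using ha)]
    rw [Nat.testBit_xor, bitv_xor, ih, add_comm]
    congr 1
    cases Nat.testBit a 0 <;> simp [bitv]

theorem f2_mulB {A B : List ℕ} (hB : B.length = 78) : f2 K (mulB A B) = f2 K A * f2 K B := by
  ext a b
  rw [Matrix.mul_apply]
  simp only [f2, Matrix.of_apply]
  rw [sum_num fun k => bitv (Nat.testBit (A.getD (num a) 0) k) * bitv (Nat.testBit (B.getD k 0) (num b))]
  rw [← hB, ← rowMul_bit]
  congr 2
  have h : ∀ (A : List ℕ) (i : ℕ), (mulB A B).getD i 0 = rowMul (A.getD i 0) B := by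
    intro A
    induction A with
    | nil =>
      intro i
      have h0 : rowMul 0 B = 0 := by cases B <;> simp [rowMul]
      simpa [mulB] using h0.symm
    | cons x A ihA => intro i; cases i with
      | zero => rfl
      | succ i => exact ihA i
  exact h A (num a)

theorem length_mulB (A B : List ℕ) : (mulB A B).length = A.length := List.length_map ..

theorem length_prodB : ∀ {l : List (List ℕ)}, (∀ A ∈ l, A.length = 78) → (prodB l).length = 78
  | [], _ => by simp [prodB, oneB]
  | A :: l, h => by rw [prodB, length_mulB]; exact h A (List.mem_cons_self ..)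

theorem f2_prodB : ∀ {l : List (List ℕ)}, (∀ A ∈ l, A.length = 78) →
    f2 K (prodB l) = (l.map (f2 K)).prod
  | [], _ => f2_oneB
  | A :: l, h => by
    have h' := fun B hB => h B (List.mem_cons_of_mem _ hB)
    rw [prodB, f2_mulB (length_prodB h'), f2_prodB h', List.map_cons, List.prod_cons]

theorem f2_addB {A B : List ℕ} (hA : A.length = 78) (hB : B.length = 78) :
    f2 K (addB A B) = f2 K A + f2 K B := by
  ext a b
  simp only [f2, Matrix.of_apply, Matrix.add_apply, addB]
  have ha : num a < A.length := hA ▸ num_lt a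
  have hb : num a < B.length := hB ▸ num_lt a
  simp [List.getD_eq_getElem?_getD, List.getElem?_zipWith, List.getElem?_eq_getElem ha,
    List.getElem?_eq_getElem hb, Nat.testBit_xor, bitv_xor]

/-! ### Codes over the field with four elements -/

variable (K) in
/-- The matrix of two bit planes. -/
def f4 (w : K) (A : List ℕ × List ℕ) : Matrix chevE6.Idx chevE6.Idx K := f2 K A.1 + w • f2 K A.2

/-- A product of matrices given by bit planes. -/
def mulP (A B : List ℕ × List ℕ) : List ℕ × List ℕ :=
  let t := mulB A.2 B.2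
  (addB (mulB A.1 B.1) t, addB (addB (mulB A.1 B.2) (mulB A.2 B.1)) t)

/-- A pair of planes of the right size. -/
def sized (A : List ℕ × List ℕ) : Prop := A.1.length = 78 ∧ A.2.length = 78

theorem sized_mulP {A B : List ℕ × List ℕ} (hA : sized A) : sized (mulP A B) := by
  constructor <;> simp [mulP, addB, mulB, hA.1, hA.2]

theorem f4_mulP {w : K} (hw : w * w = w + 1) {A B : List ℕ × List ℕ} (hA : sized A) (hB : sized B) :
    f4 K w (mulP A B) = f4 K w A * f4 K w B := by
  have l : ∀ {X Y : List ℕ}, X.length = 78 → (mulB X Y).length = 78 := fun h => by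
    rw [length_mulB, h]
  simp only [f4, mulP]
  rw [f2_addB (l hA.1) (l hA.2), f2_addB (by simp [addB, mulB, hA.1, hA.2]) (l hA.2),
    f2_addB (l hA.1) (l hA.2), f2_mulB hB.1, f2_mulB hB.1, f2_mulB hB.2, f2_mulB hB.2]
  simp only [add_mul, mul_add, Matrix.smul_mul, Matrix.mul_smul, smul_smul, hw, add_smul, one_smul]
  simp only [smul_add]
  abel

/-! ### Evaluation for the kernel -/

/-- Evaluate a number before continuing (this only matters for the kernel). -/
noncomputable def force {α : Sort*} (v : ℕ) (f : ℕ → α) : α :=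
  Nat.rec (motive := fun _ => α) (f 0) (fun _ _ => f v) v

theorem force_eq {α : Sort*} (v : ℕ) (f : ℕ → α) : force v f = f v := by cases v <;> rfl

/-- One row times a packed matrix, evaluated step by step. -/
noncomputable def rowK (B : List ℕ) : ℕ → ℕ :=
  List.rec (motive := fun _ => ℕ → ℕ) (fun _ => 0)
    (fun b _ ih a => force a fun a' =>
      Bool.rec (motive := fun _ => ℕ) (Nat.xor (Nat.mul (Nat.mod a' 2) b) (ih (Nat.div a' 2))) 0 (Nat.beq a' 0)) B

theorem rowK_eq : ∀ (B : List ℕ) (a : ℕ), rowK B a = rowMul a B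
  | [], a => rfl
  | b :: B, a => by
    show force a (fun a' =>
      Bool.rec (motive := fun _ => ℕ) (Nat.xor (Nat.mul (Nat.mod a' 2) b) (rowK B (Nat.div a' 2))) 0 (Nat.beq a' 0)) = _
    rw [force_eq, rowMul]
    cases h : Nat.beq a 0
    · show (a % 2 * b) ^^^ rowK B (a / 2) = _
      rw [rowK_eq B, Nat.testBit_zero]
      rcases Nat.mod_two_eq_zero_or_one a with e | e <;> simp [e]
    · simp

/-- A product of packed matrices, evaluated row by row. -/
noncomputable def mulK {β : Type} (A B : List ℕ) : (List ℕ → β) → β :=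
  List.rec (motive := fun _ => (List ℕ → β) → β) (fun k => k [])
    (fun a _ ih k => force (rowK B a) fun v => ih fun L => k (v :: L)) A

theorem mulK_eq {β : Type} : ∀ (A B : List ℕ) (k : List ℕ → β), mulK A B k = k (mulB A B)
  | [], _, k => rfl
  | a :: A, B, k => by
    show force (rowK B a) (fun v => mulK A B fun L => k (v :: L)) = _
    rw [force_eq, mulK_eq A B, rowK_eq]
    rfl

/-- A product of a list of packed matrices, evaluated from the right. -/
noncomputable def prodK {β : Type} (l : List (List ℕ)) : (List ℕ → β) → β :=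
  List.rec (motive := fun _ => (List ℕ → β) → β) (fun k => k oneB)
    (fun A _ ih k => ih fun T => mulK A T k) l

theorem prodK_eq {β : Type} : ∀ (l : List (List ℕ)) (k : List ℕ → β), prodK l k = k (prodB l)
  | [], k => rfl
  | A :: l, k => by
    show prodK l (fun T => mulK A T k) = _
    rw [prodK_eq l, mulK_eq]
    rfl

/-- A sum of packed matrices, evaluated entry by entry. -/
noncomputable def forceL {β : Type} (A : List ℕ) : (List ℕ → β) → β :=
  List.rec (motive := fun _ => (List ℕ → β) → β) (fun k => k [])
    (fun a _ ih k => force a fun v => ih fun L => k (v :: L)) A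

theorem forceL_eq {β : Type} : ∀ (A : List ℕ) (k : List ℕ → β), forceL A k = k A
  | [], k => rfl
  | a :: A, k => by
    show force a (fun v => forceL A fun L => k (v :: L)) = _
    rw [force_eq, forceL_eq A]

/-- A product of matrices given by bit planes, evaluated in steps. -/
noncomputable def mulPK {β : Type} (A B : List ℕ × List ℕ) (k : List ℕ × List ℕ → β) : β :=
  mulK A.2 B.2 fun t => mulK A.1 B.1 fun u => mulK A.1 B.2 fun u1 => mulK A.2 B.1 fun u2 =>
    forceL (addB u t) fun x => forceL (addB (addB u1 u2) t) fun y => k (x, y)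

theorem mulPK_eq {β : Type} (A B : List ℕ × List ℕ) (k : List ℕ × List ℕ → β) :
    mulPK A B k = k (mulP A B) := by
  simp only [mulPK, mulK_eq, forceL_eq, mulP]

/-- The parity of an integer as a code. -/
def oddC (z : ℤ) : ℕ := if z % 2 == 0 then 0 else 1

theorem cast_oddC (w : K) (z : ℤ) : (z : K) = cv w (oddC z) := by
  rcases Int.even_or_odd z with ⟨k, rfl⟩ | ⟨k, rfl⟩
  · have e : (k + k) % 2 = 0 := by omega
    simp [oddC, e, cv, CharTwo.add_self_eq_zero]
  · have e : (2 * k + 1) % 2 = 1 := by omega
    simp [oddC, e, cv, CharTwo.two_eq_zero]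

theorem oddC_lt (z : ℤ) : oddC z < 4 := by unfold oddC; split <;> omega

theorem mulC_lt (x y : ℕ) : mulC x y < 4 := Nat.mod_lt _ (by norm_num)

/-- Powers of a code. -/
def powC (t : ℕ) : ℕ → ℕ
  | 0 => 1
  | k + 1 => mulC (powC t k) t

theorem powC_lt (t k : ℕ) : powC t k < 4 := by
  cases k with
  | zero => simp [powC]
  | succ k => exact mulC_lt _ _

/-- The sum of a list of chain terms as a code. -/
def sumC (t : ℕ) : List (ℕ × ℤ) → ℕ
  | [] => 0
  | km :: l => mulC (oddC km.2) (powC t km.1) ^^^ sumC t l

theorem sumC_lt (t : ℕ) : ∀ l, sumC t l < 4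
  | [] => by simp [sumC]
  | km :: l => Nat.xor_lt_two_pow (n := 2) (mulC_lt _ _) (sumC_lt t l)

/-- The entries of the code of a root element. -/
def xc (r t : ℕ) : chevE6.Idx → chevE6.Idx → ℕ
  | .inl i', .inl i => if Nat.beq i'.val i.val then 1 else 0
  | .inr u, .inl i =>
      if Nat.beq u.val r then mulC (oddC ((chevE6.cartanSR.getD i.val #[]).getD r 0)) t else 0
  | .inl i, .inr s =>
      if Nat.beq s.val r then 0
      else if Nat.beq s.val (chevE6.negIdx.getD r 0) then
        mulC (oddC ((chevE6.coroot.getD r #[]).getD i.val 0)) t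
      else 0
  | .inr u, .inr s =>
      if Nat.beq s.val r then (if Nat.beq u.val r then 1 else 0)
      else if Nat.beq s.val (chevE6.negIdx.getD r 0) then
        (if Nat.beq u.val s.val then 1 else if Nat.beq u.val r then mulC t t else 0)
      else (if Nat.beq u.val s.val then 1 else 0) ^^^ sumC t (chevE6.chainCoeff r s.val u.val)

/-- The two planes agree with the code of a root element. -/
def xOK (r t : ℕ) (A : List ℕ × List ℕ) : Bool :=
  decide (∀ a b : chevE6.Idx, xc r t a b =
    Bool.toNat (Nat.testBit (A.1.getD (num a) 0) (num b)) +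
      2 * Bool.toNat (Nat.testBit (A.2.getD (num a) 0) (num b)))

variable {w : K} (hw : w * w = w + 1)
include hw

theorem cv_sumC {t : ℕ} (ht : t < 4) : ∀ l : List (ℕ × ℤ),
    cv w (sumC t l) = (l.map fun km => ((km.2 : ℤ) : K) * cv w t ^ km.1).sum := by
  have hp : ∀ k, cv w (powC t k) = cv w t ^ k := by
    intro k
    induction k with
    | zero => simp [powC, cv]
    | succ k ih => rw [powC, cv_mul hw (powC_lt t k) ht, ih, pow_succ]
  intro l
  induction l with
  | nil => simp [sumC, cv]
  | cons km l ih =>
    rw [sumC, cv_xor w (mulC_lt _ _) (sumC_lt t l), ih, List.map_cons, List.sum_cons,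
      cv_mul hw (oddC_lt _) (powC_lt t _), hp, ← cast_oddC]

theorem cv_xc {r t : ℕ} (hr : r < chevE6.nroots) (ht : t < 4) (a b : chevE6.Idx) :
    chevE6.xMat K ⟨r, hr⟩ (cv w t) a b = cv w (xc r t a b) := by
  have h1 : cv w 1 = (1 : K) := rfl
  have h0 : cv w 0 = (0 : K) := rfl
  have hbeq : ∀ x y : ℕ, (Nat.beq x y = true) = (x = y) := fun x y => propext
    ⟨Nat.eq_of_beq_eq_true, fun e => e ▸ Nat.beq_refl x⟩
  rcases b with i | s <;> rcases a with i' | u <;>
    simp only [ChevalleyDatum.xMat, Matrix.of_apply, xc, hbeq, Fin.ext_iff]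
  · split_ifs <;> simp [h1, h0]
  · split_ifs
    · rw [cv_mul hw (oddC_lt _) ht, ← cast_oddC, CharTwo.neg_eq]
    · rw [h0]
  · split_ifs
    · rw [h0]
    · rw [cv_mul hw (oddC_lt _) ht, ← cast_oddC]
    · rw [h0]
  · split_ifs <;>
      simp only [h1, h0, cv_mul hw ht ht, cv_sumC hw ht, CharTwo.neg_eq, zero_add, sq,
        cv_xor w (show 1 < 4 by norm_num) (sumC_lt t _), Nat.zero_xor]

theorem x_eq_f4 {r t : ℕ} (hr : r < chevE6.nroots) (ht : t < 4) {A : List ℕ × List ℕ}
    (h : xOK r t A = true) : chevE6.x K r (cv w t) = f4 K w A := by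
  rw [ChevalleyDatum.x, dif_pos hr]
  ext a b
  rw [cv_xc hw hr ht, of_decide_eq_true h a b]
  simp only [f4, f2, Matrix.add_apply, Matrix.smul_apply, Matrix.of_apply, smul_eq_mul]
  cases Nat.testBit (A.1.getD (num a) 0) (num b) <;>
    cases Nat.testBit (A.2.getD (num a) 0) (num b) <;> simp [bitv, cv, add_comm]

end field

end CfsgLib.TwistedE6Fischer
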