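import Cfsg.Agent.Lib.TwistedE6Fischer.CheckX
import Cfsg.Agent.Lib.TwistedE6Fischer.CheckGens
import Cfsg.Agent.Lib.TwistedE6Fischer.CheckRels
import Cfsg.Agent.Lib.TwistedE6Fischer.CheckSpan
import Cfsg.Agent.Lib.Schur.E6Two.GroupGens
import Cfsg.Agent.Lib.Presented.Fi22Simple
import Cfsg.Agent.Lib.Presented.Fi22UCosets

/-!
An embedding of Fi₂₂ in ²E₆(2) with absolutely irreducible image on the 78 coordinates, already on
the subgroup of the last eight generators.
-/

set_option autoImplicit false
set_option maxRecDepth 100000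

namespace CfsgLib.TwistedE6Fischer

open Cfsg.Lie CfsgLib.ChevStr CfsgLib.Twisted CfsgLib.Schur.E6Two
open CfsgLib.Presented
open scoped MatrixGroups

theorem base_shape : ((List.range 12).all fun j =>
    let l := (Data.baseWords.getD j []).map fun i => Data.entries.getD i (0, 0)
    [e6p2, e6m2, e6p4, e6m4].any (fun r => l == [(r, 1)]) ||
      [(e6p1, e6p6), (e6m1, e6m6), (e6p3, e6p5), (e6m3, e6m5)].any fun rs =>
        [1, 2, 3].any fun t => l == [(rs.1, t), (rs.2, mulC t t)]) = true ∧
    ((Data.baseWords.getD 12 []).map fun i => Data.entries.getD i (0, 0)) = [(rt 71, 1)] ∧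
    rho 71 = 71 ∧ Data.baseWords.length = 13 ∧ Data.entries.length = 21 := by
  decide +kernel

theorem gen_nontriv : ((List.range 78).any fun i => (List.range 78).any fun j =>
    !(Nat.testBit ((Data.genMat.getD 1 []).getD i 0) j == Nat.beq i j)) = true := by
  decide +kernel

section field

variable {K : Type*} [Field K] [CharP K 2] (w : K)

variable (K) in
theorem f2_zero : f2 K (List.replicate 78 0) = 0 := by
  ext a b
  simp [-List.reduceReplicate, f2, bitv, List.getD_eq_getElem?_getD, List.getElem?_replicate,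
    num_lt a]

/-- The change of basis. -/
def chg : Matrix chevE6.Idx chevE6.Idx K := f4 K w Data.change

/-- A matrix from one over the field with two elements. -/
def tw (A : List ℕ) : Matrix chevE6.Idx chevE6.Idx K := chg w * f2 K A * chg w

/-- The base elements as words. -/
def baseW (j : ℕ) : List (ℕ × K) :=
  (Data.baseWords.getD j []).map fun i =>
    ((Data.entries.getD i (0, 0)).1, cv w (Data.entries.getD i (0, 0)).2)

/-- The base elements. -/
noncomputable def gb (j : ℕ) : GL chevE6.Idx K := (coreE6 K).wordGL (baseW w j)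

/-- The nine root elements. -/
noncomputable def gX (x : ℕ) : GL chevE6.Idx K := ((Data.genWords.getD x []).map (gb w)).prod

theorem sized_one : sized (oneB, List.replicate 78 0) := by
  refine ⟨?_, ?_⟩ <;> simp [-List.reduceReplicate, oneB]

theorem f4_one : f4 K w (oneB, List.replicate 78 0) = 1 := by
  simp [-List.reduceReplicate, f4, f2_oneB, f2_zero]

omit [CharP K 2] in
theorem size_spec :
    (∀ i, i < 21 → sized (Data.planes.getD i ([], []))) ∧
    (∀ j, j < 13 → (Data.baseMat.getD j []).length = 78) ∧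
    (∀ x, x < 9 → (Data.genMat.getD x []).length = 78) ∧ sized Data.change := by
  obtain ⟨h1, h2, h3, -, h5, h6, -, -⟩ := size_check
  have hl : Data.planes.length = 21 ∧ Data.baseMat.length = 13 ∧ Data.genMat.length = 9 := by
    decide +kernel
  simp only [List.all_eq_true, Bool.and_eq_true] at h1 h2 h3
  refine ⟨fun i hi => ?_, fun j hj => ?_, fun x hx => ?_, h5, h6⟩
  · rw [List.getD_eq_getElem _ _ (hl.1.symm ▸ hi)]
    exact ⟨Nat.eq_of_beq_eq_true (h1 _ (List.getElem_mem _)).1,
      Nat.eq_of_beq_eq_true (h1 _ (List.getElem_mem _)).2⟩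
  · rw [List.getD_eq_getElem _ _ (hl.2.1.symm ▸ hj)]
    exact Nat.eq_of_beq_eq_true (h2 _ (List.getElem_mem _))
  · rw [List.getD_eq_getElem _ _ (hl.2.2.symm ▸ hx)]
    exact Nat.eq_of_beq_eq_true (h3 _ (List.getElem_mem _))

variable {w} (hw : w * w = w + 1)
include hw

theorem chg_sq : chg w * chg w = (1 : Matrix chevE6.Idx chevE6.Idx K) := by
  have h := change_check
  rw [mulPK_eq, beq_iff_eq] at h
  rw [chg, ← f4_mulP hw size_spec.2.2.2 size_spec.2.2.2, h, f4_one]

theorem prodP_spec : ∀ l : List ℕ, (∀ i ∈ l, i < 21) → sized (prodP l) ∧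
    f4 K w (prodP l) = (l.map fun i =>
      chevE6.x K (Data.entries.getD i (0, 0)).1 (cv w (Data.entries.getD i (0, 0)).2)).prod
  | [], _ => ⟨sized_one, f4_one w⟩
  | i :: l, h => by
    obtain ⟨h1, h2⟩ := prodP_spec l fun k hk => h k (List.mem_cons_of_mem _ hk)
    have hi := h i (List.mem_cons_self ..)
    have he := word_check.1
    simp only [List.all_eq_true, Bool.and_eq_true, Nat.blt_eq] at he
    have hb := he _ (List.getD_eq_getElem Data.entries (0, 0)
      (n := i) (base_shape.2.2.2.2.symm ▸ hi) ▸ List.getElem_mem _)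
    refine ⟨sized_mulP (size_spec.1 i hi), ?_⟩
    rw [prodP, f4_mulP hw (size_spec.1 i hi) h1, h2, List.map_cons, List.prod_cons,
      x_eq_f4 hw (t := (Data.entries.getD i (0, 0)).2) hb.1 hb.2 (planes_check i hi)]

theorem coe_gb {j : ℕ} (hj : j < 13) :
    (gb w j : Matrix chevE6.Idx chevE6.Idx K) = tw w (Data.baseMat.getD j []) := by
  have hl : ∀ i ∈ Data.baseWords.getD j [], i < 21 := by
    intro i hi
    have h := word_check.2.1
    simp only [List.all_eq_true, Nat.blt_eq] at h
    refine h _ ?_ i hi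
    rw [List.getD_eq_getElem _ _ (base_shape.2.2.2.1.symm ▸ hj)]
    exact List.getElem_mem _
  obtain ⟨h1, h2⟩ := prodP_spec hw _ hl
  have hg : (gb w j : Matrix chevE6.Idx chevE6.Idx K) = f4 K w (prodP (Data.baseWords.getD j [])) := by
    rw [h2, gb, (coreE6 K).coe_wordGL, ChevalleyDatum.wordMat, baseW, List.map_map]
    rfl
  have hb := base_check j hj
  simp only [baseOK, prodPK_eq, mulPK_eq, mulK_eq, Bool.and_eq_true, beq_iff_eq] at hb
  have e : chg w * (gb w j : Matrix chevE6.Idx chevE6.Idx K) * chg w =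
      f2 K (Data.baseMat.getD j []) := by
    rw [hg, chg, mul_assoc, ← f4_mulP hw h1 size_spec.2.2.2,
      ← f4_mulP hw size_spec.2.2.2 (sized_mulP h1), hb.1]
    simp [-List.reduceReplicate, f4, f2_zero]
  rw [tw, ← e, show chg w * (chg w * (gb w j : Matrix chevE6.Idx chevE6.Idx K) * chg w) * chg w =
    chg w * chg w * (gb w j : Matrix chevE6.Idx chevE6.Idx K) * (chg w * chg w) by
      simp only [mul_assoc], chg_sq hw, one_mul, mul_one]

theorem tw_prod : ∀ l : List (List ℕ), (∀ A ∈ l, A.length = 78) →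
    (l.map (tw w)).prod = tw w (prodB l)
  | [], _ => by rw [List.map_nil, List.prod_nil, prodB, tw, f2_oneB, mul_one, chg_sq hw]
  | A :: l, h => by
    have h' := fun B hB => h B (List.mem_cons_of_mem _ hB)
    rw [List.map_cons, List.prod_cons, tw_prod l h', prodB, tw, tw, tw, f2_mulB (length_prodB h')]
    calc chg w * f2 K A * chg w * (chg w * f2 K (prodB l) * chg w)
        = chg w * f2 K A * (chg w * chg w) * (f2 K (prodB l) * chg w) := by simp only [mul_assoc]
      _ = _ := by rw [chg_sq hw]; simp only [mul_assoc, one_mul]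

theorem coe_gX {x : ℕ} (hx : x < 9) :
    (gX w x : Matrix chevE6.Idx chevE6.Idx K) = tw w (Data.genMat.getD x []) := by
  have hl : ∀ j ∈ Data.genWords.getD x [], j < 13 := by
    intro j hj
    have h := word_check.2.2.1
    simp only [List.all_eq_true, Nat.blt_eq] at h
    refine h _ ?_ j hj
    rw [List.getD_eq_getElem _ _ (word_check.2.2.2.symm ▸ hx)]
    exact List.getElem_mem _
  have hc := gen_check x hx
  simp only [genOK, prodK_eq, mulK_eq, Bool.and_eq_true, beq_iff_eq] at hc
  rw [gX, ← Units.coeHom_apply, map_list_prod, List.map_map, ← hc.1.1,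
    ← tw_prod hw _ (by
      intro A hA
      obtain ⟨j, hj, rfl⟩ := List.mem_map.1 hA
      exact size_spec.2.1 j (hl j hj)), List.map_map]
  exact congrArg List.prod (List.map_congr_left fun j hj => coe_gb hw (hl j hj))

theorem gX_sq {x : ℕ} (hx : x < 9) : gX w x * gX w x = 1 := by
  refine Units.ext ?_
  have hc := gen_check x hx
  simp only [genOK, prodK_eq, mulK_eq, Bool.and_eq_true, beq_iff_eq] at hc
  have h := tw_prod hw [Data.genMat.getD x [], Data.genMat.getD x []] (by simpa using size_spec.2.2.1 x hx)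
  simp only [List.map_cons, List.map_nil, List.prod_cons, List.prod_nil, mul_one] at h
  rw [Units.val_mul, coe_gX hw hx, h, prodB, prodB, prodB, Units.val_one]
  have e : f2 K (mulB (Data.genMat.getD x []) (mulB (Data.genMat.getD x []) oneB)) = 1 := by
    rw [f2_mulB (by rw [length_mulB]; exact size_spec.2.2.1 x hx), f2_mulB (by simp [oneB]),
      f2_oneB, mul_one, ← f2_mulB (size_spec.2.2.1 x hx), hc.1.2, f2_oneB]
  rw [tw, e, mul_one, chg_sq hw]

set_option maxHeartbeats 1000000 in
/-- Only scalars commute with the last eight generators. -/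
theorem scalar_of_commute {C : Matrix chevE6.Idx chevE6.Idx K}
    (h : ∀ x, 1 ≤ x → x < 9 →
      C * (gX w x : Matrix chevE6.Idx chevE6.Idx K) = (gX w x : Matrix chevE6.Idx chevE6.Idx K) * C) :
    ∃ a : K, C = a • 1 := by
  set P := chg w with hP
  set D := P * C * P with hD
  have hB : ∀ x, 1 ≤ x → x < 9 →
      D * f2 K (Data.genMat.getD x []) = f2 K (Data.genMat.getD x []) * D := by
    intro x h1 hx
    have e : P * (gX w x : Matrix chevE6.Idx chevE6.Idx K) * P = f2 K (Data.genMat.getD x []) := by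
      rw [coe_gX hw hx, tw, ← hP, show P * (P * f2 K (Data.genMat.getD x []) * P) * P =
        P * P * f2 K (Data.genMat.getD x []) * (P * P) by simp only [mul_assoc], hP, chg_sq hw,
        one_mul, mul_one]
    rw [← e, hD]
    calc P * C * P * (P * (gX w x : Matrix chevE6.Idx chevE6.Idx K) * P)
        = P * C * (P * P) * (gX w x : Matrix chevE6.Idx chevE6.Idx K) * P := by simp only [mul_assoc]
      _ = P * (C * (gX w x : Matrix chevE6.Idx chevE6.Idx K)) * P := by
          rw [hP, chg_sq hw, mul_one]; simp only [mul_assoc]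
      _ = P * ((gX w x : Matrix chevE6.Idx chevE6.Idx K) * C) * P := by rw [h x h1 hx]
      _ = P * (gX w x : Matrix chevE6.Idx chevE6.Idx K) * (P * P) * C * P := by
          rw [hP, chg_sq hw, mul_one]; simp only [mul_assoc]
      _ = _ := by simp only [mul_assoc]
  obtain ⟨-, -, -, hL, -, -, hU, hUi⟩ := size_check
  clear_value D
  set U := f2 K Data.spanMat with hUdef
  set X := D * U with hX
  clear_value U X
  have hsur : ∀ k, k < 78 → ∃ b : chevE6.Idx, num b = k := fun k hk => by
    obtain ⟨b, hb⟩ := num_bijective.2 ⟨k, hk⟩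
    exact ⟨b, congrArg Fin.val hb⟩
  obtain ⟨b₀, hb₀⟩ := hsur 0 (by norm_num)
  obtain ⟨hline, hfix⟩ := line_check
  obtain ⟨hinv, hstep, hgenx, hpiv⟩ := span_check
  obtain ⟨bp, hbp⟩ := hsur Data.pivot hpiv
  -- the first column
  have hz : ∀ l : List (ℕ × List ℕ), (∀ cL ∈ l, cL ∈ Data.leftMat) →
      (lineSum l).length = 78 ∧ ∀ a, (f2 K (lineSum l) * X) a b₀ = 0 := by
    intro l
    induction l with
    | nil => exact fun _ => ⟨by simp [lineSum], fun a => by simp [-List.reduceReplicate, lineSum, f2_zero]⟩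
    | cons cL l ih =>
      intro hl
      obtain ⟨ih1, ih2⟩ := ih fun c hc => hl c (List.mem_cons_of_mem _ hc)
      have hmem := hl cL (List.mem_cons_self ..)
      simp only [List.all_eq_true, Bool.and_eq_true, Nat.blt_eq, List.mem_range, beq_iff_eq] at hL hfix
      obtain ⟨⟨h0, h9⟩, hcol⟩ := hfix cL hmem
      have hLc : cL.2.length = 78 := Nat.eq_of_beq_eq_true (hL cL hmem)
      have hG := size_spec.2.2.1 cL.1 h9
      have hadd : (addB (Data.genMat.getD cL.1 []) oneB).length = 78 := by simp only [addB, oneB, List.length_zipWith, List.length_map, List.length_range, hG, min_self]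
      refine ⟨by simp [lineSum, addB, mulB, hLc, ih1], fun a => ?_⟩
      rw [lineSum, f2_addB (by rw [length_mulB, hLc]) ih1, Matrix.add_mul, Matrix.add_apply, ih2,
        add_zero, f2_mulB hadd, mul_assoc, Matrix.mul_apply]
      refine Finset.sum_eq_zero fun c _ => ?_
      suffices hc : (f2 K (addB (Data.genMat.getD cL.1 []) oneB) * X) c b₀ = 0 by rw [hc, mul_zero]
      rw [f2_addB hG (by simp [oneB]), f2_oneB, hX, Matrix.add_mul, one_mul, ← mul_assoc,
        ← hB cL.1 h0 h9, mul_assoc, ← mul_add, Matrix.mul_apply]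
      refine Finset.sum_eq_zero fun e _ => ?_
      have hbit : (f2 K (Data.genMat.getD cL.1 []) * U) e b₀ = U e b₀ := by
        rw [hUdef, ← f2_mulB hU]
        simp only [f2, Matrix.of_apply, hb₀]
        rw [hcol (num e) (num_lt e)]
      rw [Matrix.add_apply, hbit, CharTwo.add_self_eq_zero, mul_zero]
  have htarget : ∀ a c, f2 K lineTarget a c =
      (1 : Matrix chevE6.Idx chevE6.Idx K) a c + (if c = bp then U a b₀ else 0) := by
    intro a c
    rw [← f2_oneB (K := K)]
    simp only [hUdef, f2, Matrix.of_apply, lineTarget, oneB, List.getD_eq_getElem?_getD,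
      List.getElem?_map, List.getElem?_range (num_lt a), Option.map_some, Option.getD_some, hb₀,
      Nat.testBit_xor, bitv_xor]
    congr 1
    by_cases hc : c = bp
    · subst hc
      rw [if_pos rfl]
      split_ifs with hb <;> simp [hbp, Nat.one_shiftLeft, bitv, hb]
    · have : num c ≠ Data.pivot := fun e => hc (num_bijective.1 (Fin.ext (e.trans hbp.symm)))
      rw [if_neg hc]
      split_ifs <;> simp [Nat.one_shiftLeft, Nat.testBit_two_pow, bitv, Ne.symm this]
  have hcol0 : ∀ a, X a b₀ = X bp b₀ * U a b₀ := by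
    intro a
    have e := (hz Data.leftMat fun _ hc => hc).2 a
    rw [hline, Matrix.mul_apply] at e
    simp only [htarget, add_mul, Finset.sum_add_distrib, ite_mul, zero_mul,
      Finset.sum_ite_eq', Finset.mem_univ, if_true] at e
    rw [← Matrix.mul_apply, one_mul, CharTwo.add_eq_zero] at e
    rw [e, mul_comm]
  have hcols : ∀ k, k < 78 → ∀ b, num b = k → ∀ a, X a b = X bp b₀ * U a b := by
    intro k
    induction k using Nat.strong_induction_on with
    | _ k ih =>
      intro hk b hb a
      by_cases hk0 : k = 0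
      · obtain rfl : b = b₀ := num_bijective.1 (Fin.ext (hb.trans (hk0.trans hb₀.symm)))
        exact hcol0 a
      have hs := hgenx
      simp only [List.all_eq_true, List.mem_range, Bool.or_eq_true, Bool.and_eq_true, Nat.blt_eq] at hs
      obtain ⟨hx0, hx9⟩ := (hs k hk).resolve_left fun e => hk0 (Nat.eq_of_beq_eq_true e)
      set p := (Data.spanSteps.getD k (0, 0)).1 with hp
      set x := (Data.spanSteps.getD k (0, 0)).2 with hx
      have h2 := hstep
      simp only [List.all_eq_true, List.mem_range, Bool.or_eq_true, Bool.and_eq_true, Nat.blt_eq,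
        Bool.not_eq_true', beq_iff_eq] at h2
      have h3 := h2 x hx9 k hk
      rw [← hx, Nat.beq_refl] at h3
      obtain ⟨hpk, hbits⟩ := (h3.resolve_left fun e => e.elim (fun e => absurd e (by simp))
        fun e => hk0 (Nat.eq_of_beq_eq_true e))
      obtain ⟨c, hc⟩ := hsur p (hpk.trans hk)
      have hUk : ∀ e, U e b = (f2 K (Data.genMat.getD x []) * U) e c := by
        intro e
        rw [hUdef, ← f2_mulB hU]
        simp only [f2, Matrix.of_apply, hb, hc]
        rw [hbits (num e) (num_lt e)]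
      have e1 : X a b = (f2 K (Data.genMat.getD x []) * X) a c := by
        rw [hX, ← mul_assoc, ← hB x hx0 hx9, mul_assoc, Matrix.mul_apply, Matrix.mul_apply]
        exact Finset.sum_congr rfl fun e _ => by rw [hUk]
      rw [e1, hUk a, Matrix.mul_apply, Matrix.mul_apply, Finset.mul_sum]
      exact Finset.sum_congr rfl fun e _ => by rw [ih p hpk (hpk.trans hk) c hc e, mul_left_comm]
  have hXU : X = X bp b₀ • U := Matrix.ext fun a b => by
    rw [Matrix.smul_apply, smul_eq_mul]; exact hcols _ (num_lt b) b rfl a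
  refine ⟨X bp b₀, ?_⟩
  have hUinv : U * f2 K Data.spanInv = 1 := by rw [hUdef, ← f2_mulB hUi, hinv, f2_oneB]
  have hDs : D = X bp b₀ • 1 := by
    calc D = D * (U * f2 K Data.spanInv) := by rw [hUinv, mul_one]
      _ = X * f2 K Data.spanInv := by rw [hX, mul_assoc]
      _ = (X bp b₀ • U) * f2 K Data.spanInv := by rw [← hXU]
      _ = _ := by rw [Matrix.smul_mul, hUinv]
  calc C = P * P * C * (P * P) := by rw [hP, chg_sq hw, one_mul, mul_one]
    _ = P * D * P := by rw [hD]; simp only [mul_assoc]
    _ = _ := by rw [hDs, mul_smul_comm, smul_mul_assoc, mul_one, hP, chg_sq hw]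

variable [Fintype K] (hn : Fintype.card K = (2 ^ 1) * (2 ^ 1))
include hn

theorem gb_mem {j : ℕ} (hj : j < 13) : gb w j ∈ twistedE6 K (2 ^ 1) := by
  have hcv1 : cv w 1 = (1 : K) := rfl
  rcases Nat.lt_succ_iff_lt_or_eq.1 hj with hj | rfl
  · have h := List.all_eq_true.1 base_shape.1 j (List.mem_range.2 hj)
    simp only [Bool.or_eq_true, List.any_eq_true, beq_iff_eq] at h
    have e : baseW w j = ((Data.baseWords.getD j []).map fun i => Data.entries.getD i (0, 0)).map
        fun p => (p.1, cv w p.2) := by rw [baseW, List.map_map]; rfl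
    rcases h with ⟨r, hr, h⟩ | ⟨rs, hrs, t, ht, h⟩
    · refine (coreE6 K).wordGL_mem_gen (W := e6Words K (2 ^ 1)) ?_
      rw [e, h]
      exact Or.inl ⟨cv w 1, by rw [hcv1, one_pow], r, hr, rfl⟩
    · refine (coreE6 K).wordGL_mem_gen (W := e6Words K (2 ^ 1)) ?_
      rw [e, h]
      refine Or.inr ⟨cv w t, rs, hrs, ?_⟩
      have ht4 : t < 4 := by simp only [List.mem_cons, List.not_mem_nil, or_false] at ht; omega
      simp [cv_mul hw ht4 ht4, sq]
  · have e : gb w 12 = gGL w 71 := by
      rw [gGL_fixed w base_shape.2.2.1, gb,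
        show baseW w 12 = ((Data.baseWords.getD 12 []).map fun i => Data.entries.getD i (0, 0)).map
          fun p => (p.1, cv w p.2) by rw [baseW, List.map_map]; rfl, base_shape.2.1]
      simp [ChevCore.wordGL, hcv1]
    rw [e]
    exact gGL_mem hw hn 71 (by norm_num)

theorem gX_mem {x : ℕ} (hx : x < 9) : gX w x ∈ twistedE6 K (2 ^ 1) := by
  refine Subgroup.list_prod_mem _ fun g hg => ?_
  obtain ⟨j, hj, rfl⟩ := List.mem_map.1 hg
  have h := word_check.2.2.1
  simp only [List.all_eq_true, Nat.blt_eq] at h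
  refine gb_mem hw hn (h _ ?_ j hj)
  rw [List.getD_eq_getElem _ _ (word_check.2.2.2.symm ▸ hx)]
  exact List.getElem_mem _

theorem exists_embedding : ∃ ψ : Cfsg.Spor.Fi22 →* ↥(twistedE6 K (2 ^ 1)),
    Function.Injective ψ ∧ ∀ g, (ψ (PresentedGroup.of g) : GL chevE6.Idx K) =
      gX w (Fi22UCosets.idxOf g) := by
  have idx_lt : ∀ g, Fi22UCosets.idxOf g < 9 := fun g => by cases g <;> decide
  have genOf_spec : ∀ x, x < 9 →
      (Fi22UCosets.genOf x).2 = true ∧ Fi22UCosets.idxOf (Fi22UCosets.genOf x).1 = x := by decide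
  let img : Cfsg.Spor.Fi22.Gen → ↥(twistedE6 K (2 ^ 1)) := fun g =>
    ⟨gX w (Fi22UCosets.idxOf g), gX_mem hw hn (idx_lt g)⟩
  have hsq : ∀ g, img g * img g = 1 := fun g => Subtype.ext (gX_sq hw (idx_lt g))
  have hrel : ∀ u ∈ Fi22UCert.relWords, evW (Fi22UCosets.letters.ev img) u = 1 := by
    intro u hu
    obtain ⟨i, hi, rfl⟩ := List.getElem_of_mem hu
    have h := rels_check i (rels_length ▸ hi)
    simp only [relOK, List.getD_eq_getElem _ _ hi, prodK_eq, Bool.and_eq_true, List.all_eq_true,
      Nat.blt_eq, beq_iff_eq] at h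
    refine Subtype.ext (Units.ext ?_)
    rw [evW, ← Subgroup.coe_subtype, map_list_prod, ← Units.coeHom_apply, map_list_prod,
      List.map_map, List.map_map]
    have e : ((twistedE6 K (2 ^ 1)).subtype (1 : ↥(twistedE6 K (2 ^ 1))) :
        Matrix chevE6.Idx chevE6.Idx K) = tw w (prodB
          (Fi22UCert.relWords[i].map fun x => Data.genMat.getD x [])) := by
      rw [h.2, tw, f2_oneB, mul_one, chg_sq hw]; rfl
    rw [e, ← tw_prod hw _ (by
      intro A hA
      obtain ⟨x, hx, rfl⟩ := List.mem_map.1 hA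
      exact size_spec.2.2.1 x (h.1 x hx)), List.map_map]
    refine congrArg List.prod (List.map_congr_left fun x hx => ?_)
    have hx9 : x < 9 := h.1 x hx
    obtain ⟨g1, g2⟩ := genOf_spec x hx9
    show (((Fi22UCosets.letters.ev img x : ↥(twistedE6 K (2 ^ 1))) : GL chevE6.Idx K) :
      Matrix chevE6.Idx chevE6.Idx K) = tw w (Data.genMat.getD x [])
    rw [Letters.ev, if_pos (show x < Fi22UCosets.letters.A.eps from hx9)]
    show (((cond (Fi22UCosets.genOf x).2 (img (Fi22UCosets.genOf x).1)
      (img (Fi22UCosets.genOf x).1)⁻¹ : ↥(twistedE6 K (2 ^ 1))) : GL chevE6.Idx K) :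
        Matrix chevE6.Idx chevE6.Idx K) = _
    rw [g1, cond_true]
    show (gX w (Fi22UCosets.idxOf (Fi22UCosets.genOf x).1) : Matrix chevE6.Idx chevE6.Idx K) = _
    rw [g2, coe_gX hw hx9]
  have kills : ∀ r ∈ Cfsg.Spor.coxRelators Cfsg.Spor.Fi22.edges ∪ {r | r ∈ Cfsg.Spor.Fi22.extra},
      FreeGroup.lift img r = 1 :=
    Letters.kills Fi22UCosets.letters_valid Fi22UCosets.nodes_valid Fi22UCosets.full
      (fun g _ => hsq g)
      (fun u hu => hrel u (by rw [Fi22UCosets.relWords_eq]; exact List.mem_append_left _ hu))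
      (fun u hu => hrel u (by rw [Fi22UCosets.relWords_eq]; exact List.mem_append_right _ hu))
  let ψ : Cfsg.Spor.Fi22 →* ↥(twistedE6 K (2 ^ 1)) := PresentedGroup.toGroup kills
  have hval : ∀ g, (ψ (PresentedGroup.of g) : GL chevE6.Idx K) = gX w (Fi22UCosets.idxOf g) :=
    fun g => congrArg Subtype.val (PresentedGroup.toGroup.of kills)
  refine ⟨ψ, ?_, hval⟩
  haveI := Fi22Simple.simple
  rcases ψ.normal_ker.eq_bot_or_eq_top with h | h
  · exact ψ.ker_eq_bot_iff.1 h
  exfalso
  have hb : ψ (PresentedGroup.of Cfsg.Spor.Fi22.Gen.b) = 1 := by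
    rw [← MonoidHom.mem_ker, h]; exact Subgroup.mem_top _
  have hb' : (gX w 1 : Matrix chevE6.Idx chevE6.Idx K) = 1 := by
    rw [show gX w 1 = gX w (Fi22UCosets.idxOf .b) from rfl, ← hval, hb]
    rfl
  rw [coe_gX hw (by norm_num)] at hb'
  have hf : f2 K (Data.genMat.getD 1 []) = (1 : Matrix chevE6.Idx chevE6.Idx K) := by
    rw [show f2 K (Data.genMat.getD 1 []) = chg w * chg w * f2 K (Data.genMat.getD 1 []) *
        (chg w * chg w) by rw [chg_sq hw, one_mul, mul_one],
      show chg w * chg w * f2 K (Data.genMat.getD 1 []) * (chg w * chg w) =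
        chg w * tw w (Data.genMat.getD 1 []) * chg w by simp only [tw, mul_assoc], hb', mul_one,
      chg_sq hw]
  obtain ⟨i, hi, j, hj, hij⟩ : ∃ i, i < 78 ∧ ∃ j, j < 78 ∧
      Nat.testBit ((Data.genMat.getD 1 []).getD i 0) j ≠ Nat.beq i j := by
    simpa [List.any_eq_true] using gen_nontriv
  obtain ⟨a, ha⟩ := num_bijective.2 ⟨i, hi⟩
  obtain ⟨b, hb2⟩ := num_bijective.2 ⟨j, hj⟩
  have ha' : num a = i := congrArg Fin.val ha
  have hb'' : num b = j := congrArg Fin.val hb2
  have e := congrFun (congrFun hf a) b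
  rw [← f2_oneB (K := K)] at e
  simp only [f2, Matrix.of_apply, ha', hb'', oneB, List.getD_eq_getElem?_getD, List.getElem?_map,
    List.getElem?_range hi, Option.map_some, Option.getD_some, Nat.one_shiftLeft,
    Nat.testBit_two_pow] at e
  rw [← List.getD_eq_getElem?_getD] at e
  have hd : decide (i = j) = Nat.beq i j := by
    rcases Nat.decEq i j with h | h
    · simp [h, Bool.eq_false_iff.2 fun e => h (Nat.eq_of_beq_eq_true e)]
    · simp [h]
  rw [hd] at e
  have inj : ∀ x y : Bool, (bitv x : K) = bitv y → x = y := fun x y => by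
    cases x <;> cases y <;> simp [bitv]
  exact hij (inj _ _ e)

end field

end CfsgLib.TwistedE6Fischer
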