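import Cfsg.Agent.Lib.TwistedE6Fischer.Emb
import Cfsg.Agent.Lib.ChevAut.Base
import Cfsg.Agent.Lib.Schur.E6Two.Torus
import Cfsg.Agent.Lib.TwistedStr.TorusE6

/-!
The diagonal automorphism of order three of ²E₆(2) separates three conjugacy classes of subgroups
whose centraliser in `GL₇₈` is scalar and whose automorphisms square to inner ones.
-/

set_option autoImplicit false

namespace CfsgLib.TwistedE6Fischer

open Cfsg.Lie CfsgLib.ChevStr CfsgLib.Twisted CfsgLib.Schur.E6Two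
open scoped MatrixGroups

/-- The exponent of the cube root of unity attached to a weight. -/
def expo (v : Fin chevE6.rank → ℤ) : ℤ := v (nodeE6 0) + 2 * v (nodeE6 5)

theorem expo_singles : ∀ r ∈ [e6p2, e6m2, e6p4, e6m4],
    r < chevE6.nroots ∧ expo (rootDataE6.α r) % 3 = 0 := by
  decide +kernel

theorem expo_pairs : ∀ rs ∈ [(e6p1, e6p6), (e6m1, e6m6), (e6p3, e6p5), (e6m3, e6m5)],
    rs.1 < chevE6.nroots ∧ rs.2 < chevE6.nroots ∧
      (expo (rootDataE6.α rs.2) - 2 * expo (rootDataE6.α rs.1)) % 3 = 0 := by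
  decide +kernel

theorem expo_rows : expo (rootDataE6.α (chevE6.simple 0)) = 1 ∧
    expo (rootDataE6.α (chevE6.simple 2)) = 0 := by
  decide +kernel

section field

variable {K : Type*} [Field K] [CharP K 2] {w : K} (hw : w * w = w + 1)

/-- The character. -/
def scaleF (v : Fin chevE6.rank → ℤ) : Kˣ := omU hw ^ expo v

theorem scaleF_zero : scaleF hw 0 = 1 := by simp [scaleF, expo]

theorem scaleF_add (v v' : Fin chevE6.rank → ℤ) : scaleF hw (v + v') = scaleF hw v * scaleF hw v' := by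
  rw [scaleF, scaleF, scaleF, ← zpow_add]
  congr 1
  simp only [expo, Pi.add_apply]
  ring

/-- The diagonal automorphism. -/
noncomputable def dGL : GL chevE6.Idx K :=
  ⟨Matrix.diagonal fun a => (scaleF hw ((coreE6 K).R.wt a) : K),
    Matrix.diagonal fun a => (((scaleF hw ((coreE6 K).R.wt a))⁻¹ : Kˣ) : K),
    by rw [Matrix.diagonal_mul_diagonal]; simp,
    by rw [Matrix.diagonal_mul_diagonal]; simp⟩

theorem coe_dGL_pow (k : ℕ) : ((dGL hw ^ k : GL chevE6.Idx K) : Matrix chevE6.Idx chevE6.Idx K) =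
    Matrix.diagonal fun a => ((scaleF hw ((coreE6 K).R.wt a) ^ k : Kˣ) : K) := by
  rw [Units.val_pow_eq_pow_val, show ((dGL hw : GL chevE6.Idx K) : Matrix chevE6.Idx chevE6.Idx K) =
    Matrix.diagonal (fun a => (scaleF hw ((coreE6 K).R.wt a) : K)) from rfl, Matrix.diagonal_pow]
  rfl

theorem dGL_cube : dGL hw ^ 3 = 1 := by
  refine Units.ext ?_
  rw [coe_dGL_pow, Units.val_one, ← Matrix.diagonal_one]
  congr 1
  funext a
  rw [scaleF, ← zpow_natCast, ← zpow_mul, mul_comm, zpow_mul, zpow_natCast, omU_cube, one_zpow,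
    Units.val_one]

theorem dGL_scale (k : ℕ) {r : ℕ} (hr : r < chevE6.nroots) (t : K) :
    dGL hw ^ k * (coreE6 K).xGL r t =
      (coreE6 K).xGL r (((scaleF hw ((coreE6 K).R.α r) ^ k : Kˣ) : K) * t) * dGL hw ^ k := by
  refine Units.ext ?_
  rw [Units.val_mul, Units.val_mul, ChevCore.coe_xGL, ChevCore.coe_xGL, coe_dGL_pow]
  exact (coreE6 K).R.x_scale (fun v => ((scaleF hw v ^ k : Kˣ) : K)) (by simp [scaleF_zero])
    (fun v v' => by simp [scaleF_add, mul_pow]) hr t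

theorem conj_xGL {r : ℕ} (hr : r < chevE6.nroots) (t : K) :
    dGL hw * (coreE6 K).xGL r t * (dGL hw)⁻¹ =
      (coreE6 K).xGL r ((scaleF hw ((coreE6 K).R.α r) : K) * t) := by
  have h := dGL_scale hw 1 hr t
  rw [pow_one, pow_one] at h
  rw [h, mul_inv_cancel_right]

theorem omU_zpow_mod {m n : ℤ} (h : (m - n) % 3 = 0) : omU hw ^ m = omU hw ^ n := by
  have e : m = n + 3 * ((m - n) / 3) := by omega
  rw [e, zpow_add, zpow_mul, show omU hw ^ (3 : ℤ) = 1 by exact_mod_cast omU_cube hw, one_zpow,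
    mul_one]

theorem conj_dGL_mem {g : GL chevE6.Idx K} (hg : g ∈ twistedE6 K (2 ^ 1)) :
    dGL hw * g * (dGL hw)⁻¹ ∈ twistedE6 K (2 ^ 1) := by
  suffices twistedE6 K (2 ^ 1) ≤ (twistedE6 K (2 ^ 1)).comap (MulAut.conj (dGL hw)).toMonoidHom from
    this hg
  refine (Subgroup.closure_le _).2 ?_
  rintro g ⟨l, hl, hgl⟩
  obtain rfl : g = (coreE6 K).wordGL l := Units.ext (by rw [hgl, ChevCore.coe_wordGL])
  show dGL hw * (coreE6 K).wordGL l * (dGL hw)⁻¹ ∈ twistedE6 K (2 ^ 1)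
  rcases hl with ⟨t, ht, r, hr, rfl⟩ | ⟨t, rs, hrs, rfl⟩
  · obtain ⟨h1, h2⟩ := expo_singles r hr
    have e : scaleF hw ((coreE6 K).R.α r) = 1 :=
      (omU_zpow_mod hw (n := 0) (by rw [sub_zero]; exact h2)).trans (zpow_zero _)
    have hm := (coreE6 K).wordGL_mem_gen (W := e6Words K (2 ^ 1)) (Or.inl ⟨t, ht, r, hr, rfl⟩)
    simp only [ChevCore.wordGL_cons, ChevCore.wordGL_nil, mul_one] at hm ⊢
    rw [conj_xGL hw h1, e, Units.val_one, one_mul]
    exact hm
  · obtain ⟨h1, h2, h3⟩ := expo_pairs rs hrs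
    set c := scaleF hw ((coreE6 K).R.α rs.1) with hc
    have e : scaleF hw ((coreE6 K).R.α rs.2) = c ^ 2 := by
      rw [hc, scaleF, scaleF, ← zpow_natCast (omU hw ^ _) 2, ← zpow_mul]
      refine omU_zpow_mod hw ?_
      rw [mul_comm (expo _) _]
      exact h3
    have hm := (coreE6 K).wordGL_mem_gen (W := e6Words K (2 ^ 1))
      (Or.inr ⟨(c : K) * t, rs, hrs, rfl⟩)
    simp only [ChevCore.wordGL_cons, ChevCore.wordGL_nil, mul_one] at hm ⊢
    rw [show dGL hw * ((coreE6 K).xGL rs.1 t * (coreE6 K).xGL rs.2 (t ^ 2 ^ 1)) * (dGL hw)⁻¹ =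
      dGL hw * (coreE6 K).xGL rs.1 t * (dGL hw)⁻¹ *
        (dGL hw * (coreE6 K).xGL rs.2 (t ^ 2 ^ 1) * (dGL hw)⁻¹) by group,
      conj_xGL hw h1, conj_xGL hw h2, e, ← hc]
    rwa [mul_pow, show ((2 : ℕ) ^ 1) = 2 from rfl, ← Units.val_pow_eq_pow_val,
      show (2 : ℕ) = 2 ^ 1 from rfl] at hm

theorem conj_pow_mem (k : ℕ) : ∀ {g : GL chevE6.Idx K}, g ∈ twistedE6 K (2 ^ 1) →
    dGL hw ^ k * g * (dGL hw ^ k)⁻¹ ∈ twistedE6 K (2 ^ 1) := by
  induction k with
  | zero => intro g hg; simpa using hg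
  | succ k ih =>
    intro g hg
    have := conj_dGL_mem hw (ih hg)
    have e : dGL hw ^ (k + 1) * g * (dGL hw ^ (k + 1))⁻¹ =
        dGL hw * (dGL hw ^ k * g * (dGL hw ^ k)⁻¹) * (dGL hw)⁻¹ := by
      rw [pow_succ']; group
    rwa [e]

variable [Fintype K] (hn : Fintype.card K = (2 ^ 1) * (2 ^ 1))
include hn

omit [CharP K 2] in
theorem units_cube (u : Kˣ) : u ^ 3 = 1 := by
  classical
  have h := pow_card_eq_one (x := u)
  rwa [Fintype.card_units, hn] at h

/-- No non-trivial power of the diagonal automorphism is a scalar multiple of an element of the group. -/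
theorem ne_smul_dGL_pow {k : ℕ} (hk : ¬ 3 ∣ k) {g : GL chevE6.Idx K}
    (hg : g ∈ twistedE6 K (2 ^ 1)) (a : K) :
    (g : Matrix chevE6.Idx chevE6.Idx K) ≠
      a • ((dGL hw ^ k : GL chevE6.Idx K) : Matrix chevE6.Idx chevE6.Idx K) := by
  intro e
  set C := coreE6 K with hC
  have hle : twistedE6 K (2 ^ 1) ≤ chevE6.group K := by
    refine (Subgroup.closure_le _).2 ?_
    rintro g ⟨l, -, hgl⟩
    rw [show g = C.wordGL l from Units.ext (by rw [hgl, ChevCore.coe_wordGL])]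
    exact C.wordGL_mem_group l
  have hgU : ∀ u ∈ chevE6.posUnipotent K, g * u * g⁻¹ ∈ chevE6.posUnipotent K := by
    suffices chevE6.posUnipotent K ≤ (chevE6.posUnipotent K).comap (MulAut.conj g).toMonoidHom from
      fun u hu => this hu
    refine C.posUnipotent_le fun r t hr => ?_
    show g * C.xGL r t * g⁻¹ ∈ chevE6.posUnipotent K
    have hx : g * C.xGL r t = C.xGL r (((scaleF hw (C.R.α r) ^ k : Kˣ) : K) * t) * g := by
      refine Units.ext ?_
      rw [Units.val_mul, Units.val_mul, e, Matrix.smul_mul, Matrix.mul_smul, ← Units.val_mul,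
        ← Units.val_mul, dGL_scale hw k hr.1]
    rw [hx, mul_inv_cancel_right]
    exact C.xGL_mem_posUnipotent hr _
  obtain ⟨v, hv, c, hvc⟩ := C.mem_borel.1 (ChevAut.mem_borel_of_normalizes_pos C (hle hg) hgU)
  have hv1 : v = 1 := by
    have hvU := C.R.posUnipotent_le_upperUni K hv
    refine Units.ext (Matrix.ext fun i j => ?_)
    rw [Units.val_one]
    by_cases hij : i = j
    · subst hij
      rw [uniGroup_apply_self (by simp [C.R.mem_posSet]) hvU, Matrix.one_apply_eq]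
    · have h := congrFun (congrFun e i) j
      rw [hvc, Units.val_mul, C.R.coe_torus, Matrix.mul_diagonal, Matrix.smul_apply, coe_dGL_pow,
        Matrix.diagonal_apply_ne _ hij, smul_zero] at h
      rw [Matrix.one_apply_ne hij]
      exact (mul_eq_zero.1 h).resolve_right (Units.ne_zero _)
  rw [hv1, one_mul] at hvc
  have hd : g ∈ chevE6.diagonalSubgroup K := by
    rw [hvc, C.diagonalSubgroup_eq]; exact ⟨c, rfl⟩
  have hmem : g ∈ (fixTorus piE6 (fun _ => 2 ^ 1)).map C.R.torus :=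
    diag_infE6 K hn le_rfl ▸ Subgroup.mem_inf.2 ⟨hd, hg⟩
  obtain ⟨c', hc', hg'⟩ := hmem
  rw [← hg'] at e
  obtain ⟨h5, h4, h3, h1⟩ := fixE6_eq K (mem_fixTorus.1 hc')
  have hone : ∀ u : Kˣ, u ^ 2 ^ 1 = u → u = 1 := fun u hu => by
    rw [pow_one, sq] at hu
    exact mul_eq_left.1 hu
  replace h3 := hone _ h3
  replace h1 := hone _ h1
  rw [C.R.coe_torus, coe_dGL_pow] at e
  have he : ∀ b, (C.R.torusChar c' (C.R.wt b) : K) =
      a * ((scaleF hw (C.R.wt b) ^ k : Kˣ) : K) := fun b => by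
    simpa using congrFun (congrFun e b) b
  have ha : a = 1 := by
    have h := he (Sum.inl (nodeE6 0))
    simpa [RootData.torusChar_zero, scaleF_zero] using h.symm
  subst ha
  have hrow : ∀ i : Fin chevE6.rank, (∏ j, c' j ^ tableEnt cartE6 i.val j.val) =
      (omU hw ^ expo (C.R.α (chevE6.simple i.val))) ^ k := fun i => by
    have h := he (Sum.inr ⟨chevE6.simple i.val, C.R.simple_lt i⟩)
    rw [C.R.wt_inr, one_mul, C.R.torusChar_root _ (C.R.simple_lt i)] at h
    simp only [← cartE6_spec]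
    exact Units.ext h
  have r0 := hrow (nodeE6 0)
  have r2 := hrow (nodeE6 2)
  simp only [prod_nodeE6] at r0 r2
  simp only [nodeE6] at r0 r2
  rw [show expo (C.R.α (chevE6.simple 0)) = 1 from expo_rows.1, zpow_one] at r0
  rw [show expo (C.R.α (chevE6.simple 2)) = 0 from expo_rows.2, zpow_zero, one_pow] at r2
  simp only [nodeE6] at h5 h4 h3 h1
  simp [tableEnt, cartE6, h5, h4, h3, h1] at r0 r2
  have a0 : c' ⟨0, by decide⟩ = c' ⟨2, by decide⟩ ^ 2 := inv_mul_eq_one.1 r2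
  have hu : omU hw ^ k = 1 := by
    rw [← r0, a0, ← pow_mul, ← units_cube hn (c' ⟨2, by decide⟩), mul_inv_eq_iff_eq_mul, ← pow_succ]
  have h31 : omU hw ≠ 1 := fun h => by
    have hw1 : w = 1 := congrArg Units.val h
    rw [hw1] at hw
    simp at hw
  have : Fact (Nat.Prime 3) := ⟨Nat.prime_three⟩
  exact hk (orderOf_eq_prime (omU_cube hw) h31 ▸ orderOf_dvd_of_pow_eq_one hu)

include hw in
/-- A subgroup with scalar centraliser and automorphisms squaring to inner ones has three classes of conjugates. -/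
theorem three_classes {S : Type} [Group S] (hout : ∀ α : MulAut S, ∃ h, α * α = MulAut.conj h)
    (ψ : S →* ↥(twistedE6 K (2 ^ 1))) (hψ : Function.Injective ψ)
    (hgen : ∀ x, 1 ≤ x → x < 9 → ∃ s, (ψ s : GL chevE6.Idx K) = gX w x) :
    ∃ H : Fin 3 → Subgroup ↥(twistedE6 K (2 ^ 1)), (∀ i, Nonempty (H i ≃* S)) ∧
      ∀ i j, i ≠ j → ∀ g : ↥(twistedE6 K (2 ^ 1)),
        (H i).map (MulAut.conj g).toMonoidHom ≠ H j := by
  set D := dGL hw with hD
  let φ : Fin 3 → S →* ↥(twistedE6 K (2 ^ 1)) := fun i =>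
    (((MulAut.conj (D ^ (i : ℕ))).toMonoidHom.comp (twistedE6 K (2 ^ 1)).subtype).comp ψ).codRestrict (twistedE6 K (2 ^ 1))
      fun s => conj_pow_mem hw i.val (ψ s).2
  have hφ : ∀ i s, (φ i s : GL chevE6.Idx K) = D ^ (i : ℕ) * ψ s * (D ^ (i : ℕ))⁻¹ := fun _ _ => rfl
  clear_value φ
  have hinj : ∀ i, Function.Injective (φ i) := fun i a b h => by
    refine hψ (Subtype.ext ?_)
    have := congrArg Subtype.val h
    rw [hφ, hφ] at this
    exact (MulAut.conj (D ^ (i : ℕ))).injective this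
  refine ⟨fun i => (φ i).range, fun i => ⟨(MonoidHom.ofInjective (hinj i)).symm⟩,
    fun i j hij g h => ?_⟩
  simp only at h
  set x : GL chevE6.Idx K := (D ^ (j : ℕ))⁻¹ * g * D ^ (i : ℕ) with hx
  have hmap : ∀ s t, MulAut.conj g (φ i s) = φ j t →
      x * (ψ s : GL chevE6.Idx K) * x⁻¹ = ψ t := by
    intro s t hst
    have e := congrArg Subtype.val hst
    rw [MulAut.conj_apply, Subgroup.coe_mul, Subgroup.coe_mul, Subgroup.coe_inv, hφ, hφ] at e
    have e' := congrArg (fun y => (D ^ (j : ℕ))⁻¹ * y * D ^ (j : ℕ)) e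
    simp only [mul_assoc, inv_mul_cancel_left, inv_mul_cancel, mul_one] at e'
    rw [← e', hx]
    simp only [mul_assoc, mul_inv_rev, inv_inv]
  have hfwd : ∀ s, ∃ t, x * (ψ s : GL chevE6.Idx K) * x⁻¹ = ψ t := fun s => by
    have hm : MulAut.conj g (φ i s) ∈ (φ j).range := h ▸ Subgroup.mem_map_of_mem _ ⟨s, rfl⟩
    obtain ⟨t, ht⟩ := hm
    exact ⟨t, hmap s t ht.symm⟩
  have hbwd : ∀ t, ∃ s, x * (ψ s : GL chevE6.Idx K) * x⁻¹ = ψ t := fun t => by
    have hm : φ j t ∈ ((φ i).range).map (MulAut.conj g).toMonoidHom := h ▸ ⟨t, rfl⟩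
    obtain ⟨_, ⟨s, rfl⟩, ht⟩ := hm
    exact ⟨s, hmap s t ht⟩
  choose f hf using hfwd
  have hψ' : ∀ {a b : S}, (ψ a : GL chevE6.Idx K) = ψ b → a = b := fun h => hψ (Subtype.ext h)
  have fmul : ∀ a b, f (a * b) = f a * f b := fun a b => hψ' (by
    rw [map_mul, Subgroup.coe_mul, ← hf, ← hf, ← hf, map_mul, Subgroup.coe_mul]
    group)
  have fbij : Function.Bijective f := by
    constructor
    · intro a b hab
      have := congrArg (fun s => (ψ s : GL chevE6.Idx K)) hab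
      simp only [← hf] at this
      exact hψ' ((MulAut.conj x).injective this)
    · intro t
      obtain ⟨s, hs⟩ := hbwd t
      exact ⟨s, hψ' (by rw [← hf, hs])⟩
  obtain ⟨h0, hh0⟩ := hout (MulEquiv.ofBijective ({ toFun := f, map_mul' := fmul } : S →ₙ* S) fbij)
  set z : GL chevE6.Idx K := (ψ h0 : GL chevE6.Idx K)⁻¹ * (x * x) with hz
  have hzc : ∀ s, z * (ψ s : GL chevE6.Idx K) = ψ s * z := by
    intro s
    have e : (ψ (f (f s)) : GL chevE6.Idx K) = ψ (h0 * s * h0⁻¹) :=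
      congrArg (fun r => (ψ r : GL chevE6.Idx K)) (DFunLike.congr_fun hh0 s)
    rw [← hf, ← hf, map_mul, map_mul, map_inv, Subgroup.coe_mul, Subgroup.coe_mul,
      Subgroup.coe_inv] at e
    calc z * (ψ s : GL chevE6.Idx K)
        = (ψ h0 : GL chevE6.Idx K)⁻¹ * (x * (x * ψ s * x⁻¹) * x⁻¹) * (x * x) := by rw [hz]; group
      _ = _ := by rw [e, hz]; group
  obtain ⟨a, ha⟩ := scalar_of_commute hw (C := (z : Matrix chevE6.Idx chevE6.Idx K))
    fun y h1 h9 => by
      obtain ⟨s, hs⟩ := hgen y h1 h9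
      rw [← hs, ← Units.val_mul, hzc, Units.val_mul]
  -- the square of `x` lies in a non-trivial coset
  set m := (i : ℕ) + (3 - (j : ℕ)) with hm
  have hDj : (D ^ (j : ℕ))⁻¹ = D ^ (3 - (j : ℕ)) := inv_eq_of_mul_eq_one_right (by
    rw [← pow_add, Nat.add_sub_cancel' j.isLt.le]; exact dGL_cube hw)
  set g1 : GL chevE6.Idx K := (D ^ (i : ℕ))⁻¹ * g * D ^ (i : ℕ) with hg1
  have hconj' : ∀ (k : ℕ) {y : GL chevE6.Idx K}, y ∈ (twistedE6 K (2 ^ 1)) → (D ^ k)⁻¹ * y * D ^ k ∈ (twistedE6 K (2 ^ 1)) := by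
    intro k y hy
    have e : (D ^ k)⁻¹ = D ^ (2 * k) := inv_eq_of_mul_eq_one_right (by
      rw [← pow_add, show k + 2 * k = 3 * k by ring, pow_mul, dGL_cube hw, one_pow])
    have := conj_pow_mem hw (2 * k) hy
    rwa [← e, inv_inv] at this
  have hxm : x = D ^ m * g1 := by
    rw [hx, hg1, hm, hDj, add_comm, pow_add]
    group
  set g4 : GL chevE6.Idx K :=
    (D ^ (2 * m))⁻¹ * (ψ h0 : GL chevE6.Idx K)⁻¹ * D ^ (2 * m) *
      ((D ^ m)⁻¹ * g1 * D ^ m * g1) with hg4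
  have hg1m : g1 ∈ (twistedE6 K (2 ^ 1)) := hconj' _ g.2
  have hg4m : g4 ∈ (twistedE6 K (2 ^ 1)) :=
    mul_mem (hconj' _ (inv_mem (ψ h0).2)) (mul_mem (hconj' _ hg1m) hg1m)
  have hzg : g4 = D ^ (4 * m) * z := by
    have e : D ^ (4 * m) = (D ^ (2 * m))⁻¹ := (inv_eq_of_mul_eq_one_right (by
      rw [← pow_add, show 2 * m + 4 * m = 3 * (2 * m) by ring, pow_mul, dGL_cube hw, one_pow])).symm
    rw [e, hz, hxm, hg4, show 2 * m = m + m by ring, pow_add]
    group
  have hij' : (i : ℕ) ≠ (j : ℕ) := fun e => hij (Fin.ext e)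
  refine ne_smul_dGL_pow hw hn (k := 4 * m) (by omega) hg4m a ?_
  rw [hzg, Units.val_mul, ha, Matrix.mul_smul, mul_one]

end field

/-- With two outer classes every automorphism squares to an inner one. -/
theorem sq_inner_of_card_out {S : Type*} [Group S] (h : Nat.card (Cfsg.Out S) = 2) (α : MulAut S) :
    ∃ s, α * α = MulAut.conj s := by
  have h1 := pow_card_eq_one' (x := (QuotientGroup.mk α : Cfsg.Out S))
  rw [h, sq, ← QuotientGroup.mk_mul, QuotientGroup.eq_one_iff] at h1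
  obtain ⟨s, hs⟩ := h1
  exact ⟨s, hs.symm⟩

theorem sq_inner_congr {S T : Type*} [Group S] [Group T] (e : S ≃* T)
    (h : ∀ α : MulAut T, ∃ t, α * α = MulAut.conj t) (α : MulAut S) :
    ∃ s, α * α = MulAut.conj s := by
  obtain ⟨t, ht⟩ := h ((e.symm.trans α).trans e)
  refine ⟨e.symm t, MulEquiv.ext fun s => e.injective ?_⟩
  have := DFunLike.congr_fun ht (e s)
  simpa [MulAut.mul_apply, MulAut.conj_apply, map_mul, map_inv] using this

end CfsgLib.TwistedE6Fischer
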